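import Groth.Agent.EGA41.K103.FlatSeq
import Groth.Agent.S9154
import Groth.Agent.S2092
import Mathlib.RingTheory.RingHom.Surjective
import Mathlib.RingTheory.KrullDimension.Polynomial
import Mathlib.FieldTheory.IsAlgClosed.Basic
import Mathlib.RingTheory.Jacobson.Ring

/-!
# Flatness of families of complete intersections

`k` algebraically closed, `A` a finite type `k`-algebra, `fs` a list of polynomials in `m` variables over `A`.  If for
every `k`-point `ε` of `A` the specialised polynomials generate the unit ideal or define a scheme of dimension at most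
`m - length fs`, then `A[x]/(fs)` is flat over `A`.
-/

set_option autoImplicit false

universe u

open MvPolynomial IsLocalRing RingTheory.Sequence

namespace K166.CIFlat

/-- The kernel of a localization of a surjective ring map. -/
theorem ker_localRingHom {B C : Type u} [CommRing B] [CommRing C] (π : B →+* C) (hπ : Function.Surjective π)
    (M : Ideal B) [M.IsPrime] (N : Ideal C) [N.IsPrime] (h : M = N.comap π) :
    RingHom.ker (Localization.localRingHom M N π h) =
      (RingHom.ker π).map (algebraMap B (Localization.AtPrime M)) := by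
  refine le_antisymm ?_ ?_
  · intro x hx
    obtain ⟨b, s, rfl⟩ := IsLocalization.exists_mk'_eq M.primeCompl x
    rw [RingHom.mem_ker, Localization.localRingHom_mk', IsLocalization.mk'_eq_zero_iff] at hx
    obtain ⟨t, ht⟩ := hx
    obtain ⟨t', ht'⟩ := hπ t
    have ht2 : t' ∉ M := by
      rw [h, Ideal.mem_comap, ht']
      exact t.2
    have h1 : IsLocalization.mk' (Localization.AtPrime M) b s =
        IsLocalization.mk' (Localization.AtPrime M) (b * t') (s * (⟨t', ht2⟩ : M.primeCompl)) :=
      (IsLocalization.mk'_cancel (S := Localization.AtPrime M) b s ⟨t', ht2⟩).symm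
    rw [h1, IsLocalization.mk'_eq_mul_mk'_one]
    refine Ideal.mul_mem_right _ _ (Ideal.mem_map_of_mem _ ?_)
    rw [RingHom.mem_ker, map_mul, ht', mul_comm, ht]
  · rw [Ideal.map_le_iff_le_comap]
    intro x hx
    rw [Ideal.mem_comap, RingHom.mem_ker, Localization.localRingHom_to_map, (RingHom.mem_ker).1 hx, map_zero]

/-- Localizations of surjective ring maps are surjective. -/
theorem localRingHom_surjective {B C : Type u} [CommRing B] [CommRing C] (π : B →+* C)
    (hπ : Function.Surjective π) (M : Ideal B) [M.IsPrime] (N : Ideal C) [N.IsPrime] (h : M = N.comap π) :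
    Function.Surjective (Localization.localRingHom M N π h) := by
  intro x
  obtain ⟨b, s, rfl⟩ := IsLocalization.exists_mk'_eq N.primeCompl x
  obtain ⟨b', rfl⟩ := hπ b
  obtain ⟨s', hs'⟩ := hπ s
  have hs2 : s' ∉ M := by
    rw [h, Ideal.mem_comap, hs']
    exact s.2
  refine ⟨IsLocalization.mk' (Localization.AtPrime M) b' (⟨s', hs2⟩ : M.primeCompl), ?_⟩
  rw [Localization.localRingHom_mk']
  congr 1
  exact Subtype.ext hs'

/-- Polynomial rings over a field are Cohen-Macaulay. -/
theorem isCohenMacaulayRing_mvPolynomial (k : Type u) [Field k] (n : ℕ) :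
    LocCoh.IsCohenMacaulayRing (MvPolynomial (Fin n) k) :=
  have : LocCoh.IsCohenMacaulayRing k := {
    isCohenMacaulayLocalRing_localization := fun p hp => by
      have h0 : p = ⊥ := (Ideal.eq_bot_or_top p).resolve_right hp.ne_top
      subst h0
      apply Groth.Agent.CalgB.CMPoly.isCohenMacaulayLocalRing_of_seq ([] : List _) (by simp)
        (RingTheory.Sequence.IsWeaklyRegular.nil _ _)
      rw [IsLocalization.AtPrime.ringKrullDim_eq_height (⊥ : Ideal k)]
      simp }
  Groth.Agent.CalgB.CMPoly.isCohenMacaulayRing_mvPolynomial k n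

/-- The local version of the flatness criterion. -/
theorem flat_local {k A : Type u} [Field k] [CommRing A] [Algebra k A] [IsNoetherianRing A] (m : ℕ)
    (fs : List (MvPolynomial (Fin m) A)) (hle : fs.length ≤ m) (ε : A →ₐ[k] k)
    (P : Ideal (MvPolynomial (Fin m) A)) [P.IsMaximal] (hP : Ideal.ofList fs ≤ P)
    (hker : RingHom.ker (MvPolynomial.map ε.toRingHom : MvPolynomial (Fin m) A →+* MvPolynomial (Fin m) k) ≤ P)
    (h : ringKrullDim (MvPolynomial (Fin m) k ⧸ Ideal.ofList (fs.map (MvPolynomial.map ε.toRingHom))) ≤
      ((m - fs.length : ℕ) : WithBot ℕ∞)) :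
    Module.Flat A (Localization.AtPrime P ⧸
      Ideal.ofList (fs.map (algebraMap (MvPolynomial (Fin m) A) (Localization.AtPrime P)))) := by
  classical
  let B := MvPolynomial (Fin m) A
  let S := MvPolynomial (Fin m) k
  let π : B →+* S := MvPolynomial.map ε.toRingHom
  have hεs : Function.Surjective ε.toRingHom := fun x => ⟨algebraMap k A x, ε.commutes x⟩
  have hπ : Function.Surjective π := MvPolynomial.map_surjective _ hεs
  let N : Ideal S := P.map π
  have hNP : P = N.comap π := by
    rw [Ideal.comap_map_of_surjective π hπ]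
    refine le_antisymm le_sup_left (sup_le le_rfl ?_)
    exact hker
  have hN : N.IsPrime := Ideal.map_isPrime_of_surjective hπ hker
  let Rl := Localization.AtPrime P
  let T := Localization.AtPrime N
  let φ : Rl →+* T := Localization.localRingHom P N π hNP
  have hφ : Function.Surjective φ := localRingHom_surjective π hπ P N hNP
  -- the point of `Spec A`
  let p : Ideal A := RingHom.ker ε.toRingHom
  have hp : p.IsMaximal := RingHom.ker_isMaximal_of_surjective _ hεs
  have hkerπ : RingHom.ker π = p.map (algebraMap A B) := MvPolynomial.ker_map _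
  have hpP : p = P.comap (algebraMap A B) := by
    refine hp.eq_of_le ?_ ?_
    · exact (Ideal.IsPrime.comap (algebraMap A B)).ne_top
    · rw [← Ideal.map_le_iff_le_comap, ← hkerπ]
      exact hker
  let Al := Localization.AtPrime p
  let ψ : Al →+* Rl := Localization.localRingHom p P (algebraMap A B) hpP
  let iAl : Algebra Al Rl := ψ.toAlgebra
  have hAB : ∀ x : A, algebraMap Al Rl (algebraMap A Al x) = algebraMap B Rl (algebraMap A B x) :=
    fun x => Localization.localRingHom_to_map p P (algebraMap A B) hpP x
  have t1 : IsScalarTower A Al Rl := IsScalarTower.of_algebraMap_eq fun x => by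
    rw [hAB, ← IsScalarTower.algebraMap_apply A B Rl]
  have hloc : IsLocalHom (algebraMap Al Rl) := Localization.isLocalHom_localRingHom p P (algebraMap A B) hpP
  have hfl0 : Module.Flat A Rl := inferInstance
  have hfl : Module.Flat Al Rl := (Module.flat_iff_of_isLocalization Al p.primeCompl Rl).2 hfl0
  -- the fibre
  let J : Ideal Rl := (maximalIdeal Al).map (algebraMap Al Rl)
  have hJ : J = RingHom.ker φ := by
    change _ = RingHom.ker (Localization.localRingHom P N π hNP)
    rw [ker_localRingHom π hπ P N hNP, hkerπ, Ideal.map_map]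
    change (maximalIdeal Al).map (algebraMap Al Rl) = _
    rw [← Localization.AtPrime.map_eq_maximalIdeal, Ideal.map_map]
    congr 1
    ext x
    exact hAB x
  -- regularity in `T`
  have hCM : LocCoh.IsCohenMacaulayRing S := isCohenMacaulayRing_mvPolynomial k m
  have hfN : Ideal.ofList (fs.map π) ≤ N := by
    rw [← Ideal.map_ofList]
    exact Ideal.map_mono hP
  have hreg : IsRegular T ((fs.map π).map (algebraMap S T)) := by
    refine (Groth.Agent.S9154.result k S m ?_ (fs.map π) (by simpa using hle) ?_ ?_).2 N hfN
    · intro q hq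
      rw [IsDomain.minimalPrimes_eq_singleton_bot, Set.mem_singleton_iff] at hq
      subst hq
      rw [ringKrullDim_eq_of_ringEquiv (RingEquiv.quotientBot S)]
      have h1 : ringKrullDim S = ringKrullDim k + (m : WithBot ℕ∞) := by
        have := MvPolynomial.ringKrullDim_of_isNoetherianRing (R := k) (ι := Fin m)
        rw [Nat.card_eq_fintype_card, Fintype.card_fin] at this
        exact this
      rw [h1, ringKrullDim_eq_zero_of_field, zero_add]
    · intro h1
      rw [h1] at hfN
      exact hN.ne_top (top_le_iff.1 hfN)
    · rw [List.length_map]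
      exact h
  let iT : Algebra Rl T := φ.toAlgebra
  have hw : IsWeaklyRegular T (fs.map (algebraMap B Rl)) := by
    rw [← isWeaklyRegular_map_algebraMap_iff T T (fs.map (algebraMap B Rl))]
    have h1 : (fs.map (algebraMap B Rl)).map (algebraMap Rl T) = (fs.map π).map (algebraMap S T) := by
      rw [List.map_map, List.map_map]
      refine List.map_congr_left fun x _ => ?_
      exact Localization.localRingHom_to_map P N π hNP x
    rw [h1]
    exact hreg.toIsWeaklyRegular
  have e : (Rl ⧸ ((maximalIdeal Al).map (algebraMap Al Rl) • (⊤ : Submodule Rl Rl))) ≃ₗ[Rl] T := by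
    refine (Submodule.quotEquivOfEq _ (LinearMap.ker (Algebra.linearMap Rl T)) ?_).trans
      (LinearMap.quotKerEquivOfSurjective (Algebra.linearMap Rl T) hφ)
    rw [smul_eq_mul, Ideal.mul_top]
    exact hJ
  have h1 := (K103.FlatSeq.of_fibre (A := Al) (B := Rl) (fs.map (algebraMap B Rl)) Rl
    ((e.isWeaklyRegular_congr _).2 hw)).2 _ le_rfl
  rw [List.take_length, smul_eq_mul, Ideal.mul_top] at h1
  have t2 : IsScalarTower A Al (Rl ⧸ Ideal.ofList (fs.map (algebraMap B Rl))) := inferInstance
  exact (Module.flat_iff_of_isLocalization Al p.primeCompl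
    (Rl ⧸ Ideal.ofList (fs.map (algebraMap B Rl)))).1 h1

/-- A family of complete intersections over a finite type algebra over an algebraically closed field is flat. -/
theorem flat_quotient {k A : Type u} [Field k] [IsAlgClosed k] [CommRing A] [Algebra k A] [Algebra.FiniteType k A]
    (m : ℕ) (fs : List (MvPolynomial (Fin m) A)) (hle : fs.length ≤ m)
    (h : ∀ ε : A →ₐ[k] k, Ideal.ofList (fs.map (MvPolynomial.map ε.toRingHom)) = ⊤ ∨
      ringKrullDim (MvPolynomial (Fin m) k ⧸ Ideal.ofList (fs.map (MvPolynomial.map ε.toRingHom))) ≤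
        ((m - fs.length : ℕ) : WithBot ℕ∞)) :
    Module.Flat A (MvPolynomial (Fin m) A ⧸ Ideal.ofList fs) := by
  have hN : IsNoetherianRing A := Algebra.FiniteType.isNoetherianRing k A
  let B := MvPolynomial (Fin m) A
  refine Module.flat_of_isLocalized_maximal B (B ⧸ Ideal.ofList fs)
    (fun P _ => Localization.AtPrime P ⧸ (Ideal.ofList fs).localized' (Localization.AtPrime P) P.primeCompl
      (Algebra.linearMap B (Localization.AtPrime P)))
    (fun P _ => (Ideal.ofList fs).toLocalizedQuotient' (Localization.AtPrime P) P.primeCompl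
      (Algebra.linearMap B (Localization.AtPrime P))) ?_
  intro P hP
  rw [Ideal.localized'_eq_map, Ideal.map_ofList]
  by_cases hfP : Ideal.ofList fs ≤ P
  · -- the residue field is `k`
    have hfin : Module.Finite k (B ⧸ P) := by
      have : Algebra.FiniteType k B := inferInstance
      letI := Ideal.Quotient.field P
      exact finite_of_finite_type_of_isJacobsonRing k (B ⧸ P)
    have hint : Algebra.IsIntegral k (B ⧸ P) := inferInstance
    have hbij : Function.Bijective (algebraMap k (B ⧸ P)) := IsAlgClosed.algebraMap_bijective_of_isIntegral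
    let e : k ≃ₐ[k] (B ⧸ P) := AlgEquiv.ofBijective (Algebra.ofId k (B ⧸ P)) hbij
    let ε : A →ₐ[k] k := (e.symm : (B ⧸ P) →ₐ[k] k).comp ((Ideal.Quotient.mkₐ k P).comp
      (IsScalarTower.toAlgHom k A B))
    have hker : RingHom.ker (MvPolynomial.map ε.toRingHom : B →+* MvPolynomial (Fin m) k) ≤ P := by
      rw [MvPolynomial.ker_map, Ideal.map_le_iff_le_comap]
      intro x hx
      have h1 : e.symm (Ideal.Quotient.mk P (algebraMap A B x)) = 0 := hx
      rw [EmbeddingLike.map_eq_zero_iff, Ideal.Quotient.eq_zero_iff_mem] at h1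
      exact h1
    refine flat_local m fs hle ε P hfP hker ?_
    refine (h ε).resolve_left fun h1 => hP.ne_top (top_le_iff.1 ?_)
    have h2 : (Ideal.ofList fs).map (MvPolynomial.map ε.toRingHom) = ⊤ := by
      rw [Ideal.map_ofList]
      exact h1
    have hεs : Function.Surjective ε.toRingHom := fun x => ⟨algebraMap k A x, ε.commutes x⟩
    have h3 := Ideal.comap_map_of_surjective (MvPolynomial.map ε.toRingHom)
      (MvPolynomial.map_surjective _ hεs) (Ideal.ofList fs)
    rw [h2, Ideal.comap_top] at h3
    rw [h3]
    exact sup_le hfP hker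
  · have h1 : Ideal.ofList (fs.map (algebraMap B (Localization.AtPrime P))) = ⊤ := by
      rw [← Ideal.map_ofList]
      obtain ⟨x, hx, hxP⟩ := SetLike.not_le_iff_exists.1 hfP
      exact Ideal.eq_top_of_isUnit_mem _ (Ideal.mem_map_of_mem _ hx)
        (IsLocalization.map_units (Localization.AtPrime P) (⟨x, hxP⟩ : P.primeCompl))
    have h2 : Subsingleton (Localization.AtPrime P ⧸
        Ideal.ofList (fs.map (algebraMap B (Localization.AtPrime P)))) := by
      rw [h1]
      infer_instance
    infer_instance

end K166.CIFlat
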