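import Groth.Agent.Fano.K105.ConeDim
import Groth.Agent.Fano.K166.CIFlat
import Mathlib.RingTheory.RingHom.Flat

/-!
# Flatness of the scheme of pointed lines over the hypersurface (node F2 of S16938)
-/

set_option autoImplicit false

universe u

open MvPolynomial

namespace K166.LineFlat

open K188.LineDef K188.LineRing K105.ConeDim

variable {k : Type u} [Field k] {n d : ℕ} (G : LefPen.Form n k d) (i j : Fin (n + 1))

section Gen

variable {A : Type u} [CommRing A] [Algebra k A] (V : Fin (n + 1) → A)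

/-- The restriction of the form to the generic line. -/
noncomputable def rB : MvPolynomial (Fin 2) (MvPolynomial (Fin (n + 1)) A) :=
  restr (C.comp (algebraMap k A)) G (fun a => C (V a)) X

/-- The equations of the scheme of pointed lines. -/
noncomputable def eqs : List (MvPolynomial (Fin (n + 1)) A) :=
  X i :: (X j - 1) :: List.ofFn fun a : Fin d => coeff (ex d a) (rB G V)

theorem coeff_rB_mem (hVG : eval₂ (algebraMap k A) V G.1 = 0) (e : Fin 2 →₀ ℕ) :
    coeff e (rB G V) ∈ Ideal.ofList (eqs G i j V) := by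
  by_cases he : e 0 + e 1 = d
  · rcases eq_single_or_ex e he with rfl | ⟨l, rfl⟩
    · have h1 : coeff (Finsupp.single 0 d) (rB G V) = 0 := by
        rw [rB, coeff_single_restr]
        have h2 : eval₂ (C.comp (algebraMap k A)) (fun a => (C (V a) : MvPolynomial (Fin (n + 1)) A)) G.1 =
            C (eval₂ (algebraMap k A) V G.1) := (hom_eval₂ G.1 _ C _).symm
        rw [h2, hVG, map_zero]
      rw [h1]
      exact zero_mem _
    · refine Ideal.subset_span ?_
      change _ ∈ eqs G i j V
      exact List.mem_cons_of_mem _ (List.mem_cons_of_mem _ ((List.mem_ofFn' _ _).2 ⟨l, rfl⟩))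
  · rw [rB, coeff_restr_eq_zero _ _ _ _ e he]
    exact zero_mem _

/-- From the scheme of pointed lines to its presentation over the hypersurface. -/
noncomputable def fwdAux : MvPolynomial (Fin (n + 1) ⊕ Fin (n + 1)) k →ₐ[k] MvPolynomial (Fin (n + 1)) A :=
  aeval (Sum.elim (fun a => C (V a)) X)

theorem fwdAux_coeff (e : Fin 2 →₀ ℕ) :
    fwdAux V (coeff e (restr C G (vv k n) (cc k n))) = coeff e (rB G V) := by
  have h1 := map_restr C (fwdAux V).toRingHom G (vv k n) (cc k n)
  have h2 : ((fwdAux V).toRingHom.comp C : k →+* _) = C.comp (algebraMap k A) := by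
    refine RingHom.ext fun x => ?_
    change fwdAux V (C x) = _
    rw [← algebraMap_eq, AlgHom.commutes]
    rfl
  have h3 : ((fwdAux V).toRingHom ∘ vv k n) = fun a => (C (V a) : MvPolynomial (Fin (n + 1)) A) := by
    funext a
    simp [fwdAux]
  have h4 : ((fwdAux V).toRingHom ∘ cc k n) = (X : Fin (n + 1) → MvPolynomial (Fin (n + 1)) A) := by
    funext a
    simp [fwdAux]
  rw [h2, h3, h4] at h1
  rw [rB, ← h1, coeff_map]
  rfl

theorem RIdeal_le (hVi : V i = 1) (hVG : eval₂ (algebraMap k A) V G.1 = 0) :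
    RIdeal G i j ≤ RingHom.ker ((Ideal.Quotient.mk (Ideal.ofList (eqs G i j V))).comp (fwdAux V).toRingHom) := by
  rw [← RingHom.comap_ker, Ideal.mk_ker]
  refine Ideal.span_le.2 ?_
  rintro p ((rfl | rfl | hp) | ⟨e, rfl⟩)
  · change fwdAux V (vv k n i - 1) ∈ Ideal.ofList (eqs G i j V)
    have : fwdAux V (vv k n i - 1) = 0 := by simp [fwdAux, hVi]
    rw [this]
    exact zero_mem _
  · change fwdAux V (cc k n i) ∈ Ideal.ofList (eqs G i j V)
    have : fwdAux V (cc k n i) = X i := by simp [fwdAux]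
    rw [this]
    exact Ideal.subset_span (by simp [eqs])
  · rw [Set.mem_singleton_iff] at hp
    subst hp
    change fwdAux V (cc k n j - 1) ∈ Ideal.ofList (eqs G i j V)
    have : fwdAux V (cc k n j - 1) = X j - 1 := by simp [fwdAux]
    rw [this]
    exact Ideal.subset_span (by simp [eqs])
  · change fwdAux V _ ∈ Ideal.ofList (eqs G i j V)
    rw [fwdAux_coeff]
    exact coeff_rB_mem G i j V hVG e

variable {i j}

variable (τ : A →ₐ[k] RRing G i j)

/-- The inverse of the presentation. -/
noncomputable def bwdAux : MvPolynomial (Fin (n + 1)) A →+* RRing G i j :=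
  eval₂Hom τ.toRingHom fun a => Ideal.Quotient.mk _ (cc k n a)

theorem bwdAux_coeff (hτ : ∀ a, τ (V a) = Ideal.Quotient.mk _ (vv k n a)) (e : Fin 2 →₀ ℕ) :
    bwdAux G τ (coeff e (rB G V)) = 0 := by
  have h1 := map_restr (C.comp (algebraMap k A)) (bwdAux G τ) G (fun a => C (V a)) X
  have h2 := map_restr C (Ideal.Quotient.mk (RIdeal G i j)) G (vv k n) (cc k n)
  have h3 : (bwdAux G τ).comp (C.comp (algebraMap k A)) =
      (Ideal.Quotient.mk (RIdeal G i j)).comp C := by
    ext x
    change bwdAux G τ (C (algebraMap k A x)) = _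
    rw [bwdAux, eval₂Hom_C]
    exact τ.commutes x
  have h4 : ((bwdAux G τ) ∘ fun a => (C (V a) : MvPolynomial (Fin (n + 1)) A)) =
      (Ideal.Quotient.mk (RIdeal G i j)) ∘ vv k n := by
    funext a
    change bwdAux G τ (C (V a)) = _
    rw [bwdAux, eval₂Hom_C]
    exact hτ a
  have h5 : ((bwdAux G τ) ∘ (X : Fin (n + 1) → MvPolynomial (Fin (n + 1)) A)) =
      (Ideal.Quotient.mk (RIdeal G i j)) ∘ cc k n := by
    funext a
    change bwdAux G τ (X a) = _
    rw [bwdAux, eval₂Hom_X']
    rfl
  rw [h3, h4, h5, ← h2] at h1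
  have h6 := congrArg (coeff e) h1
  rw [coeff_map, coeff_map] at h6
  rw [rB, h6]
  exact Ideal.Quotient.eq_zero_iff_mem.2 (Ideal.subset_span (Or.inr ⟨e, rfl⟩))

theorem bwdAux_eqs (hτ : ∀ a, τ (V a) = Ideal.Quotient.mk _ (vv k n a)) :
    Ideal.ofList (eqs G i j V) ≤ RingHom.ker (bwdAux G τ) := by
  refine Ideal.span_le.2 ?_
  intro p hp
  change p ∈ eqs G i j V at hp
  rw [eqs, List.mem_cons, List.mem_cons, List.mem_ofFn'] at hp
  rcases hp with rfl | rfl | ⟨l, rfl⟩
  · change bwdAux G τ (X i) = 0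
    rw [bwdAux, eval₂Hom_X']
    exact Ideal.Quotient.eq_zero_iff_mem.2 (Ideal.subset_span (Or.inl (by simp)))
  · change bwdAux G τ (X j - 1) = 0
    rw [map_sub, map_one, bwdAux, eval₂Hom_X', ← map_one (Ideal.Quotient.mk (RIdeal G i j)), ← map_sub]
    exact Ideal.Quotient.eq_zero_iff_mem.2 (Ideal.subset_span (Or.inl (by simp)))
  · exact bwdAux_coeff G V τ hτ _

/-- The flatness of the scheme of pointed lines, for an abstract chart of the hypersurface. -/
theorem flat_gen (hVi : V i = 1) (hVG : eval₂ (algebraMap k A) V G.1 = 0)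
    (hτ : ∀ a, τ (V a) = Ideal.Quotient.mk _ (vv k n a)) (hV : Function.Surjective (aeval (R := k) V))
    (hfl : Module.Flat A (MvPolynomial (Fin (n + 1)) A ⧸ Ideal.ofList (eqs G i j V))) :
    τ.toRingHom.Flat := by
  let I := Ideal.ofList (eqs G i j V)
  let fwd : RRing G i j →+* MvPolynomial (Fin (n + 1)) A ⧸ I :=
    Ideal.Quotient.lift _ ((Ideal.Quotient.mk I).comp (fwdAux V).toRingHom)
      (fun a ha => RIdeal_le G i j V hVi hVG ha)
  let bwd : MvPolynomial (Fin (n + 1)) A ⧸ I →+* RRing G i j :=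
    Ideal.Quotient.lift _ (bwdAux G τ) (fun _ ha => bwdAux_eqs G V τ hτ ha)
  have hbf : bwd.comp fwd = RingHom.id _ := by
    refine Ideal.Quotient.ringHom_ext (MvPolynomial.ringHom_ext (fun r => ?_) (fun a => ?_))
    · change bwdAux G τ (fwdAux V (C r)) = Ideal.Quotient.mk _ (C r)
      rw [← algebraMap_eq, AlgHom.commutes]
      change bwdAux G τ (C (algebraMap k A r)) = _
      rw [bwdAux, eval₂Hom_C]
      exact τ.commutes r
    · change bwdAux G τ (fwdAux V (X a)) = Ideal.Quotient.mk _ (X a)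
      rw [fwdAux, aeval_X]
      rcases a with a | a
      · change bwdAux G τ (C (V a)) = _
        rw [bwdAux, eval₂Hom_C]
        exact hτ a
      · change bwdAux G τ (X a) = _
        rw [bwdAux, eval₂Hom_X']
  have hfb : fwd.comp bwd = RingHom.id _ := by
    refine Ideal.Quotient.ringHom_ext (MvPolynomial.ringHom_ext (fun r => ?_) (fun a => ?_))
    · change fwd (bwdAux G τ (C r)) = Ideal.Quotient.mk _ (C r)
      rw [bwdAux, eval₂Hom_C]
      obtain ⟨r, rfl⟩ := hV r
      have h1 : (fwd.comp τ.toRingHom).comp (aeval (R := k) V).toRingHom =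
          ((Ideal.Quotient.mk I).comp (C : A →+* MvPolynomial (Fin (n + 1)) A)).comp (aeval (R := k) V).toRingHom := by
        refine MvPolynomial.ringHom_ext (fun r => ?_) (fun a => ?_)
        · change fwd (τ (aeval V (C r))) = Ideal.Quotient.mk I (C (aeval V (C r)))
          rw [aeval_C, AlgHom.commutes]
          change Ideal.Quotient.mk I (fwdAux V (C r)) = _
          rw [← algebraMap_eq, AlgHom.commutes]
          rfl
        · change fwd (τ (aeval V (X a))) = Ideal.Quotient.mk I (C (aeval V (X a)))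
          rw [aeval_X, hτ]
          change Ideal.Quotient.mk I (fwdAux V (vv k n a)) = _
          rw [fwdAux, aeval_X]
          rfl
      exact RingHom.congr_fun h1 r
    · change fwd (bwdAux G τ (X a)) = Ideal.Quotient.mk _ (X a)
      rw [bwdAux, eval₂Hom_X']
      change Ideal.Quotient.mk _ (fwdAux V (cc k n a)) = _
      rw [fwdAux, aeval_X]
      rfl
  have h2 : (algebraMap A (MvPolynomial (Fin (n + 1)) A ⧸ I)).Flat := by
    rw [RingHom.flat_algebraMap_iff]
    exact hfl
  have h3 : bwd.Flat := by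
    refine RingHom.Flat.of_bijective ⟨?_, ?_⟩
    · exact Function.LeftInverse.injective (g := fwd) (RingHom.congr_fun hfb)
    · exact Function.RightInverse.surjective (g := fwd) (RingHom.congr_fun hbf)
  have h4 := RingHom.Flat.comp h2 h3
  have h5 : bwd.comp (algebraMap A (MvPolynomial (Fin (n + 1)) A ⧸ I)) = τ.toRingHom := by
    ext x
    change bwdAux G τ (C x) = _
    rw [bwdAux, eval₂Hom_C]
  rwa [h5] at h4

theorem eval_ev (hVG : eval₂ (algebraMap k A) V G.1 = 0) (ε : A →ₐ[k] k) : eval (fun a => ε (V a)) G.1 = 0 := by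
  have h1 := congrArg ε hVG
  rw [map_zero] at h1
  rw [← h1]
  have h2 := hom_eval₂ G.1 (algebraMap k A) ε.toRingHom V
  have h3 : ε.toRingHom.comp (algebraMap k A) = RingHom.id k := by
    ext x
    exact ε.commutes x
  rw [h3] at h2
  exact h2.symm

/-- The specialised equations. -/
theorem map_eqs (ε : A →ₐ[k] k) :
    (eqs G i j V).map (MvPolynomial.map ε.toRingHom) =
      X i :: (X j - 1) :: List.ofFn (gg G fun a => ε (V a)) := by
  rw [eqs, List.map_cons, List.map_cons, List.map_ofFn, map_sub, map_X, map_X, map_one]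
  congr 3
  funext l
  change MvPolynomial.map ε.toRingHom (coeff (ex d l) (rB G V)) = coeff (ex d l) _
  have h1 := map_restr (C.comp (algebraMap k A)) (MvPolynomial.map ε.toRingHom) G
    (fun a => C (V a)) (X : Fin (n + 1) → MvPolynomial (Fin (n + 1)) A)
  rw [rB, ← coeff_map, h1]
  have e1 : (MvPolynomial.map ε.toRingHom).comp (C.comp (algebraMap k A)) =
      (C : k →+* MvPolynomial (Fin (n + 1)) k) := by
    ext1 x
    change (MvPolynomial.map ε.toRingHom (C (algebraMap k A x))) = (C x)
    rw [map_C]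
    exact congrArg C (ε.commutes x)
  have e2 : ((MvPolynomial.map ε.toRingHom) ∘ fun a => (C (V a) : MvPolynomial (Fin (n + 1)) A)) =
      fun a => C (ε (V a)) := by
    funext a
    change MvPolynomial.map ε.toRingHom (C (V a)) = _
    rw [map_C]
    rfl
  have e3 : ((MvPolynomial.map ε.toRingHom) ∘ (X : Fin (n + 1) → MvPolynomial (Fin (n + 1)) A)) = X := by
    funext a
    change MvPolynomial.map ε.toRingHom (X a) = _
    rw [map_X]
  rw [e1, e2, e3]

theorem ofList_eqs (hVG : eval₂ (algebraMap k A) V G.1 = 0) (ε : A →ₐ[k] k) :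
    Ideal.ofList ((eqs G i j V).map (MvPolynomial.map ε.toRingHom)) = FIdeal G i j fun a => ε (V a) := by
  rw [FIdeal_eq G i j _ (eval_ev G V hVG ε), map_eqs, Ideal.ofList]
  congr 1
  ext p
  simp only [List.mem_cons, List.mem_ofFn', Set.mem_ofPred_eq, Set.mem_union, Set.mem_insert_iff,
    Set.mem_singleton_iff, Set.mem_range, or_assoc]

theorem flat_eqs [IsAlgClosed k] [Algebra.FiniteType k A] (hG : Good G) (hd : 1 ≤ d) (hdn : d + 3 ≤ n)
    (hij : i ≠ j) (hVi : V i = 1) (hVG : eval₂ (algebraMap k A) V G.1 = 0) :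
    Module.Flat A (MvPolynomial (Fin (n + 1)) A ⧸ Ideal.ofList (eqs G i j V)) := by
  have hlen : (eqs G i j V).length = d + 2 := by
    rw [eqs, List.length_cons, List.length_cons, List.length_ofFn]
  refine K166.CIFlat.flat_quotient (k := k) (n + 1) (eqs G i j V) (by omega) fun ε => ?_
  have hv : ε (V i) = 1 := by rw [hVi, map_one]
  rw [ofList_eqs G V hVG ε]
  by_cases hne : FIdeal G i j (fun a => ε (V a)) = ⊤
  · exact Or.inl hne
  · refine Or.inr ?_
    have hnt : Nontrivial (FRing G i j fun a => ε (V a)) := Ideal.Quotient.nontrivial_iff.2 hne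
    have h2 := ringKrullDim_FRing G hG hd hdn i j hij (fun a => ε (V a)) hv (eval_ev G V hVG ε) hnt
    rw [hlen, show n + 1 - (d + 2) = n - d - 1 by omega]
    exact h2.le

end Gen

/-- The coordinates of the generic point of the chart of the hypersurface. -/
noncomputable def vA (a : Fin (n + 1)) : ARing G i := Ideal.Quotient.mk _ (X a)

theorem vA_self : vA G i i = 1 := by
  have h1 : (X i - 1 : MvPolynomial (Fin (n + 1)) k) ∈ AIdeal G i := Ideal.subset_span (by simp)
  have h2 := Ideal.Quotient.eq_zero_iff_mem.2 h1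
  rw [map_sub, map_one, sub_eq_zero] at h2
  exact h2

theorem eval_vA : eval₂ (algebraMap k (ARing G i)) (vA G i) G.1 = 0 := by
  have h1 : (Ideal.Quotient.mk (AIdeal G i)) G.1 = 0 :=
    Ideal.Quotient.eq_zero_iff_mem.2 (Ideal.subset_span (by simp))
  rw [← h1]
  have h2 : eval₂Hom (algebraMap k (ARing G i)) (vA G i) = Ideal.Quotient.mk (AIdeal G i) :=
    MvPolynomial.ringHom_ext (fun r => by rw [eval₂Hom_C]; rfl) (fun a => by rw [eval₂Hom_X']; rfl)
  rw [← h2]
  rfl

omit i j in
/-- Node F2. -/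
theorem flat_toR [IsAlgClosed k] (hG : Good G) (hd : 1 ≤ d) (hdn : d + 3 ≤ n) (i j : Fin (n + 1)) (hij : i ≠ j) :
    (toR G i j).toRingHom.Flat := by
  refine flat_gen G (vA G i) (toR G i j) (vA_self G i) (eval_vA G i) ?_ ?_
    (flat_eqs G (vA G i) hG hd hdn hij (vA_self G i) (eval_vA G i))
  · intro a
    change Ideal.Quotient.mk _ (rename Sum.inl (X a)) = _
    rw [rename_X]
  · intro x
    obtain ⟨x, rfl⟩ := Ideal.Quotient.mk_surjective x
    refine ⟨x, ?_⟩
    have h1 : (aeval (R := k) (vA G i)) = Ideal.Quotient.mkₐ k (AIdeal G i) :=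
      MvPolynomial.algHom_ext fun a => by rw [aeval_X]; rfl
    rw [h1]
    rfl

end K166.LineFlat
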